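import Cfsg.Agent.H856.F23.Loc
import Cfsg.Agent.H678.DG.NormLoc
import Cfsg.Agent.H836.Main
import Cfsg.Agent.H618.LD.Ev
import Cfsg.Agent.H511.Ore.Tools
import Cfsg.Agent.H559.FiSpec

/-!
# S4908: the degrees of `Fi22` (helper372)

`adm` : a degree `≠ 1` of `Fi22` is at least 65, divides the order, and has the residues `0, ±1, ±5` modulo 11,
`0, ±1, ±6` modulo 13 and `0, ±1, ±2` modulo 7. The small degrees are excluded with the value at a transposition.
-/

set_option autoImplicit false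
set_option maxRecDepth 100000

namespace Cfsg.Agent.H372.S8.Fi22

open Cfsg Subgroup
open Cfsg.Agent.Characters.Core
open Cfsg.Agent.H856.F23 (NS blk_one dvd_of_integral)
open Cfsg.Agent.H678.DG (Loc exists_loc)
open Cfsg.Agent.KFacts.FiTT (TK)
open Cfsg.Agent.H651.Two

universe v

variable {X : Type v} [Group X]

/-- the degrees of a group of order six -/
theorem theta_deg {S : Type v} [Group S] [Finite S] (hS : Nat.card S = 6) (θ : IrrCharacter S) :
    ∃ k : ℤ, (k = 1 ∨ k = 2) ∧ (θ : S → ℂ) 1 = k := by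
  have h1 := Blocks.Knorr.charDegree_eq θ.2
  refine ⟨(charDegree (θ : S → ℂ) : ℤ), ?_, by rw [h1]; push_cast; rfl⟩
  by_cases h : charDegree (θ : S → ℂ) = 1
  · left; rw [h]; rfl
  · right
    have h2 := H618.LD.Ev.sum_sq h
    rw [hS] at h2
    have h3 : charDegree (θ : S → ℂ) ≠ 0 := by
      intro h0
      have h4 := Blocks.Knorr.charDegree_dvd θ.2
      rw [h0, hS] at h4
      omega
    have h4 : charDegree (θ : S → ℂ) < 3 := by
      by_contra hcon
      push Not at hcon
      have := Nat.mul_le_mul hcon hcon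
      omega
    have h5 : charDegree (θ : S → ℂ) = 2 := by omega
    rw [h5]; rfl

/-- **the residues modulo 7** -/
theorem res7 (e : X ≃* Spor.Fi22) (χ : IrrCharacter X) :
    ∃ c : ℤ, (c = 0 ∨ c = 1 ∨ c = -1 ∨ c = 2 ∨ c = -2) ∧ (7 : ℤ) ∣ (charDegree (χ : X → ℂ) : ℤ) - c := by
  have h7 : Fact (Nat.Prime 7) := ⟨by norm_num⟩
  have I := Cfsg.Agent.H836.inv_of_iso e
  have hfin : Finite X := I.ctx.finite
  have hcard := I.ctx.card
  obtain ⟨P⟩ := (inferInstance : Nonempty (Sylow 7 X))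
  have hP : Nat.card P = 7 :=
    SmallSimple.PrimeLocal.card_of_not_sq_dvd (by rw [hcard]; norm_num) (by rw [hcard]; norm_num) P
  obtain ⟨F, S, hL⟩ := exists_loc (m := 42) (n := 3) (D := TK e)
    ((Cfsg.Agent.H836.Main.seven_concl I).2 (P : Subgroup X) hP)
  have hX : (P : Subgroup X) ≤ centralizer ((P : Subgroup X) : Set X) := by
    obtain ⟨y, -, -, -, hy⟩ := Cfsg.Agent.H836.Main.exists_gen (by norm_num : Nat.Prime 7) hP
    rw [hy, Cfsg.Agent.H836.Main.centralizer_zpowers]
    exact Cfsg.Agent.H836.Main.le_centralizer_zpowers y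
  have hN : NS (P : Subgroup X) F S := ⟨hL.le, hL.inf, hL.comm, hL.sup⟩
  have hS6 : Nat.card S = 6 := hL.cardS
  have hK := hN.isComp hP (by rw [hS6]; norm_num)
  have he := hL.relIndex hX (e := 6) (by
    have h2 : Nat.card ((P : Subgroup X)) = 7 := hP
    rw [h2])
  obtain ⟨c, θ, hc, h1, -⟩ := blk_one hK hP
    (fun θ n hn => hN.stable hK (isIrr_isClassFunction θ.2) hn) he χ
  obtain ⟨k, hk, h3⟩ := theta_deg hS6 θ
  refine ⟨c * k, ?_, ?_⟩
  · rcases hc with rfl | rfl | rfl <;> rcases hk with rfl | rfl <;> simp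
  · obtain ⟨z, hz, h⟩ := h1 1
    rw [h3, OneMemClass.coe_one, Blocks.Knorr.charDegree_eq χ.2] at h
    refine dvd_of_integral (q := 7) (by norm_num) ⟨z, hz, ?_⟩
    rw [Int.cast_natCast, h]
    push_cast
    ring

/-- the column of the prime 13 -/
def c13 : CD := ⟨13, 1, 6, 2, [(0, 0), (1, 2), (12, -2), (6, -1), (7, 1)], 0, false⟩

/-- the column of the prime 11 -/
def c11 : CD := ⟨11, 2, 5, 2, [(0, 0), (1, 2), (10, -2), (5, -1), (6, 1)], 0, false⟩

theorem ok13 : c13.ok 64561751654400 = true := by decide +kernel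
theorem ok11 : c11.ok 64561751654400 = true := by decide +kernel

theorem has13 (h : Spor.IsoFi22 X) : c13.Has X := by
  have hfin := H559.FiSpec.finite_of h
  have h13 : Fact (Nat.Prime 13) := ⟨by norm_num⟩
  obtain ⟨x, hx⟩ := exists_prime_orderOf_dvd_card' (G := X) 13 (by rw [H559.FiSpec.card_eq h]; norm_num)
  exact ⟨by norm_num [c13], x, hx, H559.FiSpec.cent13 h hx⟩

theorem has11 (h : Spor.IsoFi22 X) : c11.Has X := by
  have hfin := H559.FiSpec.finite_of h
  have h11 : Fact (Nat.Prime 11) := ⟨by norm_num⟩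
  obtain ⟨x, hx⟩ := exists_prime_orderOf_dvd_card' (G := X) 11 (by rw [H559.FiSpec.card_eq h]; norm_num)
  exact ⟨by norm_num [c11], x, hx, H559.FiSpec.cent11 h hx⟩

/-- the residues -/
def res (d : ℕ) : Bool :=
  [0, 1, 10, 5, 6].contains (d % 11) && ([0, 1, 12, 6, 7].contains (d % 13) && [0, 1, 6, 2, 5].contains (d % 7))

/-- the test for the degrees of `Fi22` -/
def adm (d : ℕ) : Bool :=
  Nat.beq d 1 || (Nat.ble 65 d && (!(Nat.beq d 72) && (!(Nat.beq d 77) && (Nat.beq (64561751654400 % d) 0 && res d))))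

theorem simple_of (h : Spor.IsoFi22 X) : IsSimpleGroup X := by
  obtain ⟨e⟩ := h
  have := Cfsg.Agent.R01.Fi22Facts.isSimple
  exact e.isSimpleGroup

/-- the small values -/
theorem small_chk : ([6, 12, 27, 33, 72, 77].all fun d => (List.range 7019).all fun w =>
    !(H618.LD.Num.okw d (w + 1))) = true := by decide +kernel

theorem small_div : ((List.range 78).all fun d => !(Nat.beq (64561751654400 % d) 0) || (!(res d) ||
    (Nat.ble d 1 || [6, 12, 27, 33, 65, 72, 77].contains d))) = true := by decide +kernel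

theorem res_of {d : ℕ} (h7 : ∃ c : ℤ, (c = 0 ∨ c = 1 ∨ c = -1 ∨ c = 2 ∨ c = -2) ∧ (7 : ℤ) ∣ (d : ℤ) - c)
    (h11 : (c11.wl.any fun rw => Nat.beq (d % c11.r) rw.1) = true)
    (h13 : (c13.wl.any fun rw => Nat.beq (d % c13.r) rw.1) = true) : res d = true := by
  have e7 : d % 7 = 0 ∨ d % 7 = 1 ∨ d % 7 = 6 ∨ d % 7 = 2 ∨ d % 7 = 5 := by
    obtain ⟨c, hc, h⟩ := h7
    rcases hc with rfl | rfl | rfl | rfl | rfl <;> omega
  have e11 : d % 11 = 0 ∨ d % 11 = 1 ∨ d % 11 = 10 ∨ d % 11 = 5 ∨ d % 11 = 6 := by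
    simpa [c11] using h11
  have e13 : d % 13 = 0 ∨ d % 13 = 1 ∨ d % 13 = 12 ∨ d % 13 = 6 ∨ d % 13 = 7 := by
    simpa [c13] using h13
  unfold res
  rcases e7 with e7 | e7 | e7 | e7 | e7 <;> rcases e11 with e11 | e11 | e11 | e11 | e11 <;>
    rcases e13 with e13 | e13 | e13 | e13 | e13 <;> rw [e7, e11, e13] <;> rfl

/-- **the degrees of `Fi22`** -/
theorem adm_of (h : Spor.IsoFi22 X) {d : ℕ} (hd : d ∈ charDegrees X) : adm d = true := by
  have hs := simple_of h
  have hfin := H559.FiSpec.finite_of h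
  have hcard := H559.FiSpec.card_eq h
  obtain ⟨χ, hχ⟩ := hd
  by_cases h1 : d = 1
  · rw [h1]; rfl
  have hna : ¬ IsMulCommutative X := by
    intro hcom
    have h2 : (Nat.card X).Prime := by
      let _ : CommGroup X := { (inferInstance : Group X) with mul_comm := fun a b => hcom.is_comm.comm a b }
      exact IsSimpleGroup.prime_card
    rw [hcard] at h2
    norm_num at h2
  have hdv : d ∣ 64561751654400 := by
    rw [← hcard, ← hχ]
    exact Blocks.Knorr.charDegree_dvd χ.2
  have h11 := H511.Ore.res_of_has hna hcard (has11 h) ok11 χ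
  have h13 := H511.Ore.res_of_has hna hcard (has13 h) ok13 χ
  obtain ⟨e⟩ := h
  have h7 := res7 e χ
  rw [hχ] at h7 h11 h13
  have hr := res_of h7 h11 h13
  have C := Cfsg.Agent.LThreeFi22.Inst.ctx e
  have hA := H618.LD.Ev.adm C χ (by rw [hχ]; exact h1)
  rw [hχ] at hA
  have hw := H618.LD.Num.okw_of_adm hA
  have hno : d ∉ [6, 12, 27, 33, 72, 77] := by
    intro hmem
    have hbd := hA.bd
    obtain ⟨w, hw1⟩ : ∃ w, (H618.LD.Ev.ww (TK e) (χ : X → ℂ) + 3510).toNat = w + 1 :=
      ⟨(H618.LD.Ev.ww (TK e) (χ : X → ℂ) + 3510).toNat - 1, by omega⟩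
    have h2 := List.all_eq_true.1 (List.all_eq_true.1 small_chk d hmem) w (List.mem_range.2 (by omega))
    rw [← hw1, hw] at h2
    exact absurd h2 (by decide)
  have hz : Nat.beq (64561751654400 % d) 0 = true := by
    rw [Nat.beq_eq]; exact Nat.mod_eq_zero_of_dvd hdv
  have hge : 65 ≤ d := by
    by_contra hcon
    push Not at hcon
    have h2 := List.all_eq_true.1 small_div d (List.mem_range.2 (by omega))
    rw [hz, hr] at h2
    simp only [Bool.not_true, Bool.false_or, Bool.or_eq_true, Nat.ble_eq, List.contains_iff_mem] at h2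
    rcases h2 with h2 | h2
    · have := hA.one
      omega
    · simp only [List.mem_cons, List.not_mem_nil, or_false] at h2 hno
      omega
  have n72 : Nat.beq d 72 = false := by
    rw [Bool.eq_false_iff]
    intro h2
    exact hno (by rw [Nat.eq_of_beq_eq_true h2]; decide)
  have n77 : Nat.beq d 77 = false := by
    rw [Bool.eq_false_iff]
    intro h2
    exact hno (by rw [Nat.eq_of_beq_eq_true h2]; decide)
  unfold adm
  rw [hz, hr, n72, n77, show Nat.ble 65 d = true by rw [Nat.ble_eq]; exact hge]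
  simp

end Cfsg.Agent.H372.S8.Fi22
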