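import Cfsg.Agent.H372.S8.FiDeg
import Cfsg.Agent.H570.S8.SuzMain
import Cfsg.Agent.H289.Eight.SuzDeg
import Cfsg.Agent.H58.S8.Iso

/-!
# S4908, `Fi22`: the rows SOC1 and SOC2 (helper372)
-/

set_option autoImplicit false
set_option maxRecDepth 100000
set_option linter.unusedSectionVars false

namespace Cfsg.Agent.H372.S8.Fi22

open Cfsg Subgroup
open Cfsg.Agent.Characters.Core
open Cfsg.Agent.H704.S8 (Deg Soc1 Soc2)
open Cfsg.Agent.H691.AN (AlmostSimple)
open Cfsg.Agent.H570.S8 (Num Rest deg_aut soc1_of soc2_of known imAll)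

universe u v

section

variable {X : Type v} [Group X]

theorem adm_cases {d : ℕ} (h : adm d = true) (h1 : d ≠ 1) : 65 ≤ d ∧ d ∣ 64561751654400 := by
  unfold adm at h
  rw [Bool.or_eq_true] at h
  rcases h with h | h
  · rw [Nat.beq_eq] at h
    exact absurd h h1
  · simp only [Bool.and_eq_true, Nat.ble_eq, Nat.beq_eq] at h
    exact ⟨h.1, Nat.dvd_of_mod_eq_zero h.2.2.2.1⟩

/-- no prime powers -/
theorem pp_chk : ([2, 3, 5, 7, 11, 13].all fun r => (List.range 46).all fun k =>
    Nat.beq k 0 || !(adm (r ^ k))) = true := by decide +kernel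

theorem adm_pp {r k : ℕ} (hr : r.Prime) (hk : 0 < k) : adm (r ^ k) = false := by
  by_contra h
  rw [Bool.not_eq_false] at h
  have h1 : r ^ k ≠ 1 := (Nat.one_lt_pow hk.ne' hr.one_lt).ne'
  obtain ⟨-, h2⟩ := adm_cases h h1
  have h3 : r ∣ 2 ^ 17 * (3 ^ 9 * (5 ^ 2 * (7 * (11 * 13)))) := (dvd_pow_self r hk.ne').trans (h2.trans (by norm_num))
  have h4 : r ∈ [2, 3, 5, 7, 11, 13] := by
    have hq : ∀ {q j : ℕ}, q.Prime → r ∣ q ^ j → r = q := fun hq h =>
      (Nat.prime_dvd_prime_iff_eq hr hq).1 (hr.dvd_of_dvd_pow h)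
    rcases hr.dvd_mul.1 h3 with h | h
    · rw [hq (by norm_num) h]; decide
    rcases hr.dvd_mul.1 h with h | h
    · rw [hq (by norm_num) h]; decide
    rcases hr.dvd_mul.1 h with h | h
    · rw [hq (by norm_num) h]; decide
    rcases hr.dvd_mul.1 h with h | h
    · rw [hq (q := 7) (j := 1) (by norm_num) (by simpa using h)]; decide
    rcases hr.dvd_mul.1 h with h | h
    · rw [hq (q := 11) (j := 1) (by norm_num) (by simpa using h)]; decide
    · rw [hq (q := 13) (j := 1) (by norm_num) (by simpa using h)]; decide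
  have h5 : k < 46 := by
    by_contra hcon
    push Not at hcon
    have h6 : 2 ^ 46 ≤ r ^ k := (Nat.pow_le_pow_right (by norm_num) hcon).trans (Nat.pow_le_pow_left hr.two_le k)
    have h7 := Nat.le_of_dvd (by norm_num) h2
    omega
  have h6 := List.all_eq_true.1 (List.all_eq_true.1 pp_chk r h4) k (List.mem_range.2 h5)
  rw [h] at h6
  simp only [Bool.not_true, Bool.or_false, Nat.beq_eq] at h6
  omega

/-- **the degrees in `D`** -/
theorem mem_cases (h : Spor.IsoFi22 X) {D : Set ℕ} (hD : Deg 2 X D) {d : ℕ} (hd : d ∈ D) (h1 : d ≠ 1) :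
    ∃ c : ℕ, c ≠ 1 ∧ adm c = true ∧ 65 ≤ d ∧ (d = c ∨ d = 2 * c) := by
  have hs := simple_of h
  have hfin := H559.FiSpec.finite_of h
  have hcard := H559.FiSpec.card_eq h
  rcases hD with rfl | ⟨-, rfl⟩
  · exact ⟨d, h1, adm_of h hd, (adm_cases (adm_of h hd) h1).1, Or.inl rfl⟩
  · have hna : ¬ (Nat.card X).Prime := by
      rw [hcard]
      norm_num
    have hcen : Subgroup.center X = ⊥ := by
      rcases IsSimpleGroup.eq_bot_or_eq_top_of_normal (Subgroup.center X) inferInstance with h0 | h0
      · exact h0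
      · exfalso
        apply hna
        let _ : CommGroup X := { (inferInstance : Group X) with
          mul_comm := fun a b => (Subgroup.mem_center_iff.1 (by rw [h0]; exact Subgroup.mem_top b) a) }
        exact IsSimpleGroup.prime_card
    have hmin : ∀ θ : X → ℂ, IsIrrCharacter X θ → θ ≠ 1 → 65 ≤ charDegree θ := by
      intro θ hθ hne
      by_cases h2 : charDegree θ = 1
      · exfalso
        apply hne
        refine SmallSimple.SelfCentSum.eq_one_of_apply_one hna hθ ?_
        rw [← H672.coe_charDegree hθ, h2, Nat.cast_one]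
      · exact (adm_cases (adm_of h ⟨⟨θ, hθ⟩, rfl⟩) h2).1
    have ho : (MulAut.conj : X →* MulAut X).range.index ∣ 2 :=
      H570.S8.Suz.index_dvd_two (by unfold IsSporadicGroup; tauto)
    obtain ⟨h3, c, hc, hc1, h4⟩ := deg_aut (m := 65) (by norm_num) hmin hcen ho hd h1
    exact ⟨c, hc1, adm_of h hc, h3, h4⟩

theorem num (h : Spor.IsoFi22 X) {D : Set ℕ} (hD : Deg 2 X D) : Num D 129123503308800 65 := by
  refine ⟨by norm_num, ?_, ?_, ?_⟩
  · intro d hd
    by_cases h1 : d = 1
    · rw [h1]; exact one_dvd _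
    obtain ⟨c, hc1, hc, -, h2⟩ := mem_cases h hD hd h1
    have h3 := (adm_cases hc hc1).2
    rcases h2 with rfl | rfl
    · exact h3.trans (by norm_num)
    · exact (Nat.mul_dvd_mul_left 2 h3).trans (by norm_num)
  · intro d hd h1
    exact (mem_cases h hD hd h1).choose_spec.2.2.1
  · intro r k hr hk hd
    have h1 : r ^ k ≠ 1 := (Nat.one_lt_pow hk.ne' hr.one_lt).ne'
    obtain ⟨c, hc1, hc, -, h2⟩ := mem_cases h hD hd h1
    rcases h2 with h2 | h2
    · rw [← h2, adm_pp hr hk] at hc
      exact absurd hc (by decide)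
    · have h3 : c ∣ r ^ k := ⟨2, by rw [h2, mul_comm]⟩
      obtain ⟨j, -, rfl⟩ := (Nat.dvd_prime_pow hr).1 h3
      have hj : 0 < j := by
        rcases Nat.eq_zero_or_pos j with h0 | h0
        · subst h0; exact absurd (pow_zero r) hc1
        · exact h0
      rw [adm_pp hr hj] at hc
      exact absurd hc (by decide)

variable (h : Spor.IsoFi22 X) {D : Set ℕ} (hD : Deg 2 X D) {S : Type u} [Group S] (R : Rest D 129123503308800 S)

include h hD R

/-- a degree of the socle -/
theorem kill {a : ℕ} (ha : a ∈ charDegrees S) (h1 : 1 < a) (h2 : adm a = false) (h3 : adm (2 * a) = false)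
    (h4 : adm (a / 2) = false) : False := by
  have key : ∀ c : ℕ, adm c = true → a = c ∨ 2 * a = c ∨ a = 2 * c → False := by
    rintro c hc (rfl | rfl | h5)
    · rw [h2] at hc; exact absurd hc (by decide)
    · rw [h3] at hc; exact absurd hc (by decide)
    · rw [show a / 2 = c by omega, hc] at h4
      exact absurd h4 (by decide)
  rcases R.deg a ha (by omega) with h5 | h5
  · obtain ⟨c, -, hc, -, h6⟩ := mem_cases h hD h5 (by omega)
    exact key c hc (by tauto)
  · obtain ⟨c, -, hc, -, h6⟩ := mem_cases h hD h5 (by omega)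
    refine key c hc ?_
    rcases h6 with h6 | h6
    · exact Or.inr (Or.inl h6)
    · exact Or.inl (by omega)

theorem kill_prime {p : ℕ} (hp : p.Prime) {n : ℕ} (hn : Nat.card S = n) (h1 : n % p = 0)
    (h2 : 129123503308800 % p ≠ 0) : False :=
  h2 (Nat.mod_eq_zero_of_dvd (R.prime p hp (hn ▸ Nat.dvd_of_mod_eq_zero h1)))

omit h hD R in
/-- the sporadic socles -/
theorem spor {X : Type v} [Group X] (h : Spor.IsoFi22 X) {D : Set ℕ} (hD : Deg 2 X D) {S : Type u}
    [Group S] [Finite S] (R : Rest D 129123503308800 S) : Nonempty (S ≃* X) := by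
  rcases R.or with ht | hs
  · exact (kill h hD R (H740.Eight.Tits.mem_27 ht) (by norm_num) (by decide +kernel) (by decide +kernel) (by decide +kernel)).elim
  rcases hs with k | k | k | k | k | k | k | k | k | k | k | k | k | k | k | k | k | k | k | k | k | k | k | k | k | k
  · exact (kill h hD R (a := 10) (H603.FD.Spor.m11 (UGT.End.MEleven.isM11 k)).1 (by norm_num) (by decide +kernel) (by decide +kernel) (by decide +kernel)).elim
  · exact (kill h hD R (a := 16) (H603.FD.Spor.m12 (H603.FD.Spor.isM12 k)).1 (by norm_num) (by decide +kernel) (by decide +kernel) (by decide +kernel)).elim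
  · exact (kill h hD R (a := 21) (H603.FD.Spor.m22 (H417.RecogMathieu.isM22 k)).1 (by norm_num) (by decide +kernel) (by decide +kernel) (by decide +kernel)).elim
  · exact (kill_prime h hD R (p := 23) (by norm_num) (NotCT.Orders.m23 k) (by norm_num) (by norm_num)).elim
  · exact (kill_prime h hD R (p := 23) (by norm_num) (NotCT.Orders.m24 k) (by norm_num) (by norm_num)).elim
  · exact (kill_prime h hD R (p := 19) (by norm_num) (NotCT.Orders.j1 k) (by norm_num) (by norm_num)).elim
  · exact (kill h hD R (a := 36) (H672.SporIM.j2 k).2 (by norm_num) (by decide +kernel) (by decide +kernel) (by decide +kernel)).elim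
  · exact (kill_prime h hD R (p := 19) (by norm_num) (NotCT.Orders.j3 k) (by norm_num) (by norm_num)).elim
  · exact (kill_prime h hD R (p := 43) (by norm_num) (NotCT.Orders.j4 k) (by norm_num) (by norm_num)).elim
  · exact (kill_prime h hD R (p := 23) (by norm_num) (NotCT.Orders.co1 k) (by norm_num) (by norm_num)).elim
  · exact (kill_prime h hD R (p := 23) (by norm_num) (NotCT.Orders.co2 k) (by norm_num) (by norm_num)).elim
  · exact (kill_prime h hD R (p := 23) (by norm_num) (NotCT.Orders.co3 k) (by norm_num) (by norm_num)).elim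
  · exact (kill h hD R (a := 22) (H424.DegTools.mem_charDegrees.2 (H765.DS.HSMcL.mcl_22 k)) (by norm_num) (by decide +kernel) (by decide +kernel) (by decide +kernel)).elim
  · exact (kill h hD R (a := 22) (H424.DegTools.mem_charDegrees.2 (H765.DS.HSMcL.hs_22 k)) (by norm_num) (by decide +kernel) (by decide +kernel) (by decide +kernel)).elim
  · obtain ⟨f⟩ := k
    have h5 : 15795 ∈ charDegrees S := by
      rw [H424.DegTools.charDegrees_congr f]
      exact H289.Eight.SuzDeg.deg_15795
    exact (kill h hD R h5 (by norm_num) (by decide +kernel) (by decide +kernel) (by decide +kernel)).elim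
  · exact (kill_prime h hD R (p := 17) (by norm_num) (NotCT.Orders.he k) (by norm_num) (by norm_num)).elim
  · exact (kill_prime h hD R (p := 29) (by norm_num) (NotCT.Orders.ru k) (by norm_num) (by norm_num)).elim
  · exact (kill_prime h hD R (p := 31) (by norm_num) (NotCT.Orders.on k) (by norm_num) (by norm_num)).elim
  · exact (kill_prime h hD R (p := 31) (by norm_num) (NotCT.Orders.ly k) (by norm_num) (by norm_num)).elim
  · obtain ⟨e⟩ := h
    obtain ⟨f⟩ := k
    exact ⟨f.trans e.symm⟩
  · exact (kill_prime h hD R (p := 23) (by norm_num) (NotCT.Orders.fi23 k) (by norm_num) (by norm_num)).elim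
  · exact (kill_prime h hD R (p := 23) (by norm_num) (NotCT.Orders.fi24 k) (by norm_num) (by norm_num)).elim
  · exact (kill_prime h hD R (p := 19) (by norm_num) (NotCT.Orders.hn k) (by norm_num) (by norm_num)).elim
  · exact (kill_prime h hD R (p := 19) (by norm_num) (NotCT.Orders.th k) (by norm_num) (by norm_num)).elim
  · exact (kill_prime h hD R (p := 47) (by norm_num) (NotCT.Orders.b k) (by norm_num) (by norm_num)).elim
  · exact (kill_prime h hD R (p := 71) (by norm_num) (NotCT.Orders.m k) (by norm_num) (by norm_num)).elim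

end

/-- **SOC1**, model version -/
theorem soc1_iso {X : Type v} [Group X] (h : Spor.IsoFi22 X) {D : Set ℕ} (hD : Deg 2 X D) : Soc1.{u} D X := by
  intro A _ _ S hA hAD
  obtain ⟨T, iT, fT, ⟨e⟩, R⟩ := soc1_of known imAll (num h hD) (q := 17) (by norm_num) (by norm_num) (by norm_num)
    (by norm_num) hA hAD
  obtain ⟨f⟩ := spor h hD R
  exact ⟨e.trans f⟩

/-- **SOC2**, model version -/
theorem soc2_iso {X : Type v} [Group X] (h : Spor.IsoFi22 X) {D : Set ℕ} (hD : Deg 2 X D) : Soc2.{u} D :=
  soc2_of known imAll (num h hD) (by norm_num) (by norm_num) (by norm_num) (by norm_num)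

/-- **SOC1** -/
theorem soc1 {X : Type v} [Group X] [Finite X] (h : Cfsg.IsFi22 X) {D : Set ℕ} (hD : Deg 2 X D) : Soc1.{u} D X :=
  soc1_iso (H58.S8.iso_fi22 h) hD

/-- **SOC2** -/
theorem soc2 {X : Type v} [Group X] [Finite X] (h : Cfsg.IsFi22 X) {D : Set ℕ} (hD : Deg 2 X D) : Soc2.{u} D :=
  soc2_iso (H58.S8.iso_fi22 h) hD

end Cfsg.Agent.H372.S8.Fi22
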